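import Mathlib.CategoryTheory.Triangulated.Triangulated
import Mathlib.CategoryTheory.Triangulated.Adjunction
import Mathlib.CategoryTheory.Triangulated.Functor
import Mathlib.Tactic
import Groth.Prelude.Def_W4c3perfectstacksMV

/-!
# Mayer–Vietoris squares of triangulated categories
-/

open CategoryTheory CategoryTheory.Limits CategoryTheory.Pretriangulated

namespace Groth.Agent.MVSqLib

universe v u

variable {S S' R R' : Type u} [Category.{v} S] [Category.{v} S'] [Category.{v} R] [Category.{v} R']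
  [Preadditive S] [Preadditive S'] [Preadditive R] [Preadditive R']
  [HasZeroObject S] [HasZeroObject S'] [HasZeroObject R] [HasZeroObject R']
  [HasShift S ℤ] [HasShift S' ℤ] [HasShift R ℤ] [HasShift R' ℤ]
  [∀ n : ℤ, (shiftFunctor S n).Additive] [∀ n : ℤ, (shiftFunctor S' n).Additive]
  [∀ n : ℤ, (shiftFunctor R n).Additive] [∀ n : ℤ, (shiftFunctor R' n).Additive]
  [Pretriangulated S] [Pretriangulated S'] [Pretriangulated R] [Pretriangulated R']

section General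

variable {C D : Type*} [Category C] [Category D] [Preadditive C] [Preadditive D]

/-- an additive functor kills a zero object -/
theorem isZero_map (F : C ⥤ D) [F.Additive] {X : C} (h : IsZero X) : IsZero (F.obj X) := F.map_isZero h

theorem hom_eq_zero_of_adj {L : C ⥤ D} {Rt : D ⥤ C} (adj : L ⊣ Rt) {X : C} {Y : D} (h : IsZero (L.obj X))
    (f : X ⟶ Rt.obj Y) : f = 0 := by
  have : (adj.homEquiv X Y).symm f = (adj.homEquiv X Y).symm 0 := h.eq_of_src _ _
  exact (adj.homEquiv X Y).symm.injective this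

theorem isIso_map_unit {L : C ⥤ D} {Rt : D ⥤ C} (adj : L ⊣ Rt) (h : IsIso adj.counit) (X : C) :
    IsIso (L.map (adj.unit.app X)) := by
  haveI : IsIso (adj.counit.app (L.obj X)) := inferInstance
  haveI : IsIso (L.map (adj.unit.app X) ≫ adj.counit.app (L.obj X)) := by
    have e := adj.left_triangle_components X
    dsimp at e ⊢
    rw [e]; infer_instance
  exact IsIso.of_isIso_comp_right _ (adj.counit.app (L.obj X))

end General

section Tri

variable {C : Type*} [Category C] [Preadditive C] [HasZeroObject C] [HasShift C ℤ]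
  [∀ n : ℤ, (shiftFunctor C n).Additive] [Pretriangulated C]

/-- if one component of the second map is invertible, so is the other component of the first -/
theorem isIso_comp_fst {X Y Z A B : C} {a : X ⟶ Y} {b : Y ⟶ Z} {d : Z ⟶ X⟦(1 : ℤ)⟧}
    (hT : Triangle.mk a b d ∈ distTriang C) (i₁ : A ⟶ Y) (i₂ : B ⟶ Y) (p₁ : Y ⟶ A) (p₂ : Y ⟶ B)
    (h₁₁ : i₁ ≫ p₁ = 𝟙 A) (h₂₁ : i₂ ≫ p₁ = 0) (htot : p₁ ≫ i₁ + p₂ ≫ i₂ = 𝟙 Y)
    (hiso : IsIso (i₂ ≫ b)) : IsIso (a ≫ p₁) := by
  have hab : a ≫ b = 0 := comp_distTriang_mor_zero₁₂ _ hT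
  let s : A ⟶ Y := i₁ - (i₁ ≫ b ≫ inv (i₂ ≫ b)) ≫ i₂
  obtain ⟨(r : A ⟶ X), (hr : s = r ≫ a)⟩ := Triangle.coyoneda_exact₂ _ hT s (by
    show s ≫ b = 0
    simp only [s, Preadditive.sub_comp, Category.assoc, IsIso.inv_hom_id, Category.comp_id, sub_self])
  have hr' : r ≫ a = s := hr.symm
  haveI : Epi b := by
    have : Epi (i₂ ≫ b) := inferInstance
    exact epi_of_epi i₂ b
  haveI : Mono a := Triangle.mono₁ _ hT ((Triangle.mor₃_eq_zero_iff_epi₂ _ hT).2 ‹Epi b›)
  refine ⟨r, ?_, ?_⟩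
  · rw [← cancel_mono a, Category.assoc, Category.assoc, hr', Category.id_comp]
    have e : a ≫ p₂ ≫ i₂ = a - a ≫ p₁ ≫ i₁ := by
      rw [eq_sub_iff_add_eq', ← Preadditive.comp_add, htot, Category.comp_id]
    have e1 : a ≫ p₁ ≫ i₁ ≫ b = - (a ≫ p₂ ≫ (i₂ ≫ b)) := by
      have := congrArg (fun t => t ≫ b) (congrArg (fun t => a ≫ t) htot)
      simp only [Preadditive.comp_add, Preadditive.add_comp, Category.comp_id, Category.assoc, hab] at this
      exact eq_neg_of_add_eq_zero_left this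
    have e2 : a ≫ p₁ ≫ i₁ ≫ b ≫ inv (i₂ ≫ b) = -(a ≫ p₂) := by
      have := congrArg (fun t => t ≫ inv (i₂ ≫ b)) e1
      simpa only [Category.assoc, Preadditive.neg_comp, IsIso.hom_inv_id, Category.comp_id] using this
    have e3 : a ≫ p₁ ≫ i₁ ≫ b ≫ inv (i₂ ≫ b) ≫ i₂ = -(a ≫ p₂ ≫ i₂) := by
      have := congrArg (fun t => t ≫ i₂) e2
      simpa only [Category.assoc, Preadditive.neg_comp] using this
    simp only [s, Preadditive.comp_sub, Category.assoc, e3, sub_neg_eq_add]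
    rw [← Preadditive.comp_add, htot, Category.comp_id]
  · rw [← Category.assoc, hr', Preadditive.sub_comp, h₁₁, Category.assoc, h₂₁, comp_zero, sub_zero]

end Tri

variable (q : W4c3perfectstacks.MVSq S S' R R')
  [q.jst.CommShift ℤ] [q.fst.CommShift ℤ] [q.jpst.CommShift ℤ] [q.gst.CommShift ℤ]
  [q.jst.IsTriangulated] [q.fst.IsTriangulated] [q.jpst.IsTriangulated] [q.gst.IsTriangulated]

/-- `f_* f^* j_* P` -/
abbrev T (P : R) : S := q.fls.obj (q.fst.obj (q.jls.obj P))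

/-- The Mayer–Vietoris second map. -/
noncomputable abbrev mvB (N : S) [HasBinaryBiproducts S] :
    q.jls.obj (q.jst.obj N) ⊞ q.fls.obj (q.fst.obj N) ⟶ T q (q.jst.obj N) :=
  biprod.desc (q.adjF.unit.app (q.jls.obj (q.jst.obj N))) (-(q.fls.map (q.fst.map (q.adjJ.unit.app N))))

omit [q.fst.CommShift ℤ] [q.fst.IsTriangulated] in
theorem isZero_jpst_fst {K : S} (h : IsZero (q.jst.obj K)) : IsZero (q.jpst.obj (q.fst.obj K)) :=
  IsZero.of_iso (isZero_map q.gst h) (q.e.app K).symm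

omit [q.jpst.CommShift ℤ] [q.jpst.IsTriangulated] [q.gst.CommShift ℤ] [q.gst.IsTriangulated] in
theorem isZero_jst_shift {K : S} (h : IsZero (q.jst.obj K)) (n : ℤ) : IsZero (q.jst.obj (K⟦n⟧)) :=
  IsZero.of_iso ((shiftFunctor R n).map_isZero h) ((q.jst.commShiftIso n).app K)

variable (hq : q.IsMV)
include hq

theorem hom_T_eq_zero {K : S} (h : IsZero (q.jst.obj K)) {P : R} (f : K ⟶ T q P) : f = 0 := by
  haveI := hq.isIso_bc2App P
  have h1 : (q.adjF.homEquiv _ _).symm f ≫ q.bc2App P = 0 := hom_eq_zero_of_adj q.adjJp (isZero_jpst_fst q h) _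
  have h2 : (q.adjF.homEquiv _ _).symm f = 0 := zero_of_comp_mono _ h1
  refine (q.adjF.homEquiv _ _).symm.injective (h2.trans ?_)
  haveI := q.adjF.right_adjoint_additive
  simp [Adjunction.homEquiv_counit]

theorem exists_fibre (N : S) : ∃ (K : S) (i : K ⟶ N) (δ : q.jls.obj (q.jst.obj N) ⟶ K⟦(1 : ℤ)⟧),
    Triangle.mk i (q.adjJ.unit.app N) δ ∈ distTriang S ∧ IsZero (q.jst.obj K) := by
  obtain ⟨K, i, δ, hT⟩ := distinguished_cocone_triangle₁ (q.adjJ.unit.app N)
  exact ⟨K, i, δ, hT, Triangle.isZero₁_of_isIso₂ _ (q.jst.map_distinguished _ hT)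
    (isIso_map_unit q.adjJ hq.isIso_counitJ N)⟩

theorem eq_zero_of_unit_comp {N : S} {P : R} (f : q.jls.obj (q.jst.obj N) ⟶ T q P)
    (h : q.adjJ.unit.app N ≫ f = 0) : f = 0 := by
  obtain ⟨K, i, δ, hT, hK⟩ := exists_fibre q hq N
  obtain ⟨g, hg⟩ := Triangle.yoneda_exact₃ _ hT f h
  rw [hg, hom_T_eq_zero q hq (isZero_jst_shift q hK 1) g]
  exact comp_zero

theorem exists_shift_unit_comp {N : S} {P : R} (f : N⟦(1 : ℤ)⟧ ⟶ T q P) :
    ∃ f' : (q.jls.obj (q.jst.obj N))⟦(1 : ℤ)⟧ ⟶ T q P, f = (q.adjJ.unit.app N)⟦(1 : ℤ)⟧' ≫ f' := by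
  obtain ⟨K, i, δ, hT, hK⟩ := exists_fibre q hq N
  obtain ⟨g, hg⟩ := Triangle.yoneda_exact₃ _ (rot_of_distTriang _ (rot_of_distTriang _ hT)) f
    (hom_T_eq_zero q hq (isZero_jst_shift q hK 1) _)
  exact ⟨-g, by rw [hg]; exact (Preadditive.neg_comp _ _).trans (Preadditive.comp_neg _ _).symm⟩

/-- maps out of the cone of `a` into `T P` are determined on the middle, when `a` lifts the unit -/
theorem eq_of_mor₂_comp {N Y Z : S} {a : N ⟶ Y} {b : Y ⟶ Z} {d : Z ⟶ N⟦(1 : ℤ)⟧}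
    (hT : Triangle.mk a b d ∈ distTriang S) (p : Y ⟶ q.jls.obj (q.jst.obj N)) (hp : a ≫ p = q.adjJ.unit.app N)
    {P : R} {c c' : Z ⟶ T q P} (h : b ≫ c = b ≫ c') : c = c' := by
  rw [← sub_eq_zero]
  obtain ⟨(g : N⟦(1 : ℤ)⟧ ⟶ T q P), (hg : c - c' = d ≫ g)⟩ := Triangle.yoneda_exact₃ _ hT (c - c') (by
    show b ≫ (c - c') = 0
    rw [Preadditive.comp_sub, h, sub_self])
  obtain ⟨g', hg'⟩ := exists_shift_unit_comp q hq g
  have hda : d ≫ a⟦(1 : ℤ)⟧' = 0 := comp_distTriang_mor_zero₃₁ _ hT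
  rw [hg, hg', ← hp, Functor.map_comp, Category.assoc]
  rw [← Category.assoc, hda, zero_comp]

variable [IsTriangulated S]

theorem existsUnique_triangle (N : S) : ∃! d : T q (q.jst.obj N) ⟶ N⟦(1 : ℤ)⟧,
      Triangle.mk (biprod.lift (q.adjJ.unit.app N) (q.adjF.unit.app N)) (mvB q N) d ∈ distTriang S := by
  letI := q.adjF.rightAdjointCommShift ℤ
  haveI := q.adjF.commShift_of_leftAdjoint ℤ
  haveI := q.adjF.isTriangulated_rightAdjoint
  set Y₁ := q.jls.obj (q.jst.obj N)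
  set Y₂ := q.fls.obj (q.fst.obj N)
  obtain ⟨C, β, δ, hC⟩ := distinguished_cocone_triangle (biprod.lift (q.adjJ.unit.app N) (q.adjF.unit.app N) : N ⟶ Y₁ ⊞ Y₂)
  have hfst : Triangle.mk (biprod.fst : Y₁ ⊞ Y₂ ⟶ Y₁) (0 : Y₁ ⟶ Y₂⟦(1 : ℤ)⟧)
      (-(biprod.inr : Y₂ ⟶ Y₁ ⊞ Y₂)⟦(1 : ℤ)⟧') ∈ distTriang S := by
    have h0 : Triangle.mk (biprod.inr : Y₂ ⟶ Y₁ ⊞ Y₂) biprod.fst (0 : Y₁ ⟶ Y₂⟦(1 : ℤ)⟧) ∈ distTriang S := by
      refine isomorphic_distinguished _ (binaryBiproductTriangle_distinguished Y₂ Y₁) _ ?_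
      refine Triangle.isoMk _ _ (Iso.refl _) (biprod.braiding Y₁ Y₂) (Iso.refl _) ?_ ?_ ?_
      · show biprod.inr ≫ (biprod.braiding Y₁ Y₂).hom = 𝟙 Y₂ ≫ biprod.inl
        apply biprod.hom_ext <;> simp
      · show biprod.fst ≫ 𝟙 Y₁ = (biprod.braiding Y₁ Y₂).hom ≫ biprod.snd
        simp
      · show (0 : Y₁ ⟶ Y₂⟦(1 : ℤ)⟧) ≫ _ = 𝟙 Y₁ ≫ 0
        exact zero_comp.trans comp_zero.symm
    exact rot_of_distTriang _ h0
  obtain ⟨K, i, v, hK, hjK⟩ := exists_fibre q hq N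
  haveI : IsIso (q.adjF.unit.app K) := hq.isIso_unitF K hjK
  have h13 := rot_of_distTriang _ hK
  obtain ⟨o⟩ := IsTriangulated.octahedron_axiom (biprod.lift_fst (q.adjJ.unit.app N) (q.adjF.unit.app N)) hC hfst h13
  -- the triangle `Y₂ → C → K[1]`
  have hm3 : o.m₃ = (i ≫ q.adjF.unit.app N)⟦(1 : ℤ)⟧' := by
    let m₃ : K⟦(1 : ℤ)⟧ ⟶ Y₂⟦(1 : ℤ)⟧ := o.m₃
    show m₃ = _
    have h4 : (-(i⟦(1 : ℤ)⟧') : K⟦(1 : ℤ)⟧ ⟶ N⟦(1 : ℤ)⟧) ≫ (biprod.lift (q.adjJ.unit.app N) (q.adjF.unit.app N))⟦(1 : ℤ)⟧' =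
        m₃ ≫ (-((biprod.inr : Y₂ ⟶ Y₁ ⊞ Y₂)⟦(1 : ℤ)⟧')) := o.comm₄
    have h5 := congrArg (fun t => t ≫ (biprod.snd : Y₁ ⊞ Y₂ ⟶ Y₂)⟦(1 : ℤ)⟧') h4
    simp only [Category.assoc, Preadditive.neg_comp, Preadditive.comp_neg, ← Functor.map_comp,
      biprod.lift_snd, biprod.inr_snd, CategoryTheory.Functor.map_id, Category.comp_id, neg_inj] at h5
    exact h5.symm.trans (congrArg (fun t => (shiftFunctor S (1 : ℤ)).map (i ≫ t)) (biprod.lift_snd _ _))
  have hD : Triangle.mk (-(i ≫ q.adjF.unit.app N)) (biprod.inr ≫ β) o.m₁ ∈ distTriang S := by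
    rw [rotate_distinguished_triangle]
    rw [rotate_distinguished_triangle]
    refine isomorphic_distinguished _ o.mem _ ?_
    refine Triangle.isoMk _ _ (Iso.refl _) (Iso.refl _) (Iso.refl _) ?_ ?_ ?_
    · show o.m₁ ≫ 𝟙 _ = 𝟙 _ ≫ o.m₁
      exact (Category.comp_id _).trans (Category.id_comp _).symm
    · show (-((-(i ≫ q.adjF.unit.app N))⟦(1 : ℤ)⟧')) ≫ 𝟙 _ = 𝟙 _ ≫ o.m₃
      rw [Functor.map_neg, neg_neg, ← hm3]
      exact (Category.comp_id _).trans (Category.id_comp _).symm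
    · show (-((biprod.inr ≫ β)⟦(1 : ℤ)⟧')) ≫ (shiftFunctor S (1 : ℤ)).map (𝟙 _) =
        𝟙 _ ≫ ((-((biprod.inr : Y₂ ⟶ Y₁ ⊞ Y₂)⟦(1 : ℤ)⟧')) ≫ β⟦(1 : ℤ)⟧')
      rw [CategoryTheory.Functor.map_id, Functor.map_comp, Preadditive.neg_comp, Preadditive.neg_comp]
      exact (congrArg Neg.neg (Category.comp_id _)).trans (Category.id_comp _).symm
  have hN := q.fls.map_distinguished _ (q.fst.map_distinguished _ hK)
  let e₁ : K ≅ q.fls.obj (q.fst.obj K) := asIso (q.adjF.unit.app K)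
  obtain ⟨(θ : C ⟶ T q (q.jst.obj N)), hθ1, hθ2⟩ := complete_distinguished_triangle_morphism _ _ hD hN e₁.hom (-(𝟙 Y₂)) (by
    show (-(i ≫ q.adjF.unit.app N)) ≫ (-(𝟙 Y₂)) = e₁.hom ≫ q.fls.map (q.fst.map i)
    rw [Preadditive.neg_comp, Preadditive.comp_neg, neg_neg]
    exact (Category.comp_id _).trans (q.adjF.unit.naturality i))
  change (biprod.inr ≫ β) ≫ θ = (-(𝟙 Y₂)) ≫ q.fls.map (q.fst.map (q.adjJ.unit.app N)) at hθ1
  haveI : IsIso θ := isIso₃_of_isIso₁₂ (T := Triangle.mk (-(i ≫ q.adjF.unit.app N)) (biprod.inr ≫ β) o.m₁)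
    (T' := q.fls.mapTriangle.obj (q.fst.mapTriangle.obj (Triangle.mk i (q.adjJ.unit.app N) v)))
    (Triangle.homMk _ _ e₁.hom (-(𝟙 Y₂)) θ (by
      show (-(i ≫ q.adjF.unit.app N)) ≫ (-(𝟙 Y₂)) = e₁.hom ≫ q.fls.map (q.fst.map i)
      rw [Preadditive.neg_comp, Preadditive.comp_neg, neg_neg]
      exact (Category.comp_id _).trans (q.adjF.unit.naturality i)) hθ1 hθ2) hD hN (Iso.isIso_hom e₁)
    (⟨-(𝟙 Y₂), by simp, by simp⟩ : IsIso (-(𝟙 Y₂)))
  have hβ : β ≫ θ = mvB q N := by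
    apply biprod.hom_ext'
    · rw [biprod.inl_desc]
      rw [← sub_eq_zero]
      refine eq_zero_of_unit_comp q hq _ ?_
      have h0 : biprod.lift (q.adjJ.unit.app N) (q.adjF.unit.app N) ≫ β = 0 := comp_distTriang_mor_zero₁₂ _ hC
      have h1 := congrArg (fun t => t ≫ θ) h0
      rw [biprod.lift_eq, Preadditive.add_comp, Preadditive.add_comp, zero_comp] at h1
      simp only [Category.assoc] at h1 hθ1
      erw [hθ1] at h1
      rw [Preadditive.neg_comp, Preadditive.comp_neg] at h1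
      erw [Category.id_comp] at h1
      rw [Preadditive.comp_sub, sub_eq_zero, ← add_neg_eq_zero]
      refine (Eq.trans ?_ h1)
      congr 2
      exact q.adjF.unit.naturality (q.adjJ.unit.app N)
    · rw [biprod.inr_desc]
      simpa using hθ1
  have hd : Triangle.mk (biprod.lift (q.adjJ.unit.app N) (q.adjF.unit.app N)) (mvB q N) (inv θ ≫ δ) ∈ distTriang S := by
    refine isomorphic_distinguished _ hC _ ?_
    refine Triangle.isoMk _ _ (Iso.refl _) (Iso.refl _) (asIso θ).symm ?_ ?_ ?_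
    · exact (Category.comp_id _).trans (Category.id_comp _).symm
    · show mvB q N ≫ inv θ = 𝟙 _ ≫ β
      rw [← hβ]; simp
    · exact (congrArg ((inv θ ≫ δ) ≫ ·) (CategoryTheory.Functor.map_id _ _)).trans (Category.comp_id _)
  refine ⟨inv θ ≫ δ, hd, fun d' hd' => ?_⟩
  obtain ⟨(c : T q (q.jst.obj N) ⟶ T q (q.jst.obj N)), (hc1 : mvB q N ≫ c = 𝟙 _ ≫ mvB q N),
      (hc2 : d' ≫ (shiftFunctor S (1 : ℤ)).map (𝟙 N) = c ≫ inv θ ≫ δ)⟩ :=
    complete_distinguished_triangle_morphism _ _ hd' hd (𝟙 N) (𝟙 _) ((Category.comp_id _).trans (Category.id_comp _).symm)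
  have : c = 𝟙 _ := eq_of_mor₂_comp q hq hd' biprod.fst (biprod.lift_fst _ _) (by
    rw [Category.comp_id]
    exact hc1.trans (Category.id_comp _))
  subst this
  simpa using hc2

theorem naturality {N₁ N₂ : S} (φ : N₁ ⟶ N₂) {d₁ : T q (q.jst.obj N₁) ⟶ N₁⟦(1 : ℤ)⟧}
    {d₂ : T q (q.jst.obj N₂) ⟶ N₂⟦(1 : ℤ)⟧}
    (h₁ : Triangle.mk (biprod.lift (q.adjJ.unit.app N₁) (q.adjF.unit.app N₁)) (mvB q N₁) d₁ ∈ distTriang S)
    (h₂ : Triangle.mk (biprod.lift (q.adjJ.unit.app N₂) (q.adjF.unit.app N₂)) (mvB q N₂) d₂ ∈ distTriang S) :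
    d₁ ≫ (shiftFunctor S (1 : ℤ)).map φ = q.fls.map (q.fst.map (q.jls.map (q.jst.map φ))) ≫ d₂ := by
  haveI := q.adjF.right_adjoint_additive
  let m := biprod.map (q.jls.map (q.jst.map φ)) (q.fls.map (q.fst.map φ))
  have eJ : φ ≫ q.adjJ.unit.app N₂ = q.adjJ.unit.app N₁ ≫ q.jls.map (q.jst.map φ) := q.adjJ.unit.naturality φ
  have eF : φ ≫ q.adjF.unit.app N₂ = q.adjF.unit.app N₁ ≫ q.fls.map (q.fst.map φ) := q.adjF.unit.naturality φ
  obtain ⟨(c : T q (q.jst.obj N₁) ⟶ T q (q.jst.obj N₂)), (hc1 : mvB q N₁ ≫ c = m ≫ mvB q N₂),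
      (hc2 : d₁ ≫ (shiftFunctor S (1 : ℤ)).map φ = c ≫ d₂)⟩ := complete_distinguished_triangle_morphism _ _ h₁ h₂ φ m (by
    show biprod.lift _ _ ≫ m = φ ≫ biprod.lift _ _
    apply biprod.hom_ext
    · rw [Category.assoc, Category.assoc, biprod.map_fst, biprod.lift_fst_assoc, biprod.lift_fst]
      exact eJ.symm
    · rw [Category.assoc, Category.assoc, biprod.map_snd, biprod.lift_snd_assoc, biprod.lift_snd]
      exact eF.symm)
  have : c = q.fls.map (q.fst.map (q.jls.map (q.jst.map φ))) :=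
    eq_of_mor₂_comp q hq h₁ biprod.fst (biprod.lift_fst _ _) (by
      refine hc1.trans ?_
      show m ≫ mvB q N₂ = mvB q N₁ ≫ _
      apply biprod.hom_ext'
      · rw [biprod.inl_map_assoc, biprod.inl_desc, biprod.inl_desc_assoc]
        exact q.adjF.unit.naturality (q.jls.map (q.jst.map φ))
      · rw [biprod.inr_map_assoc, biprod.inr_desc, biprod.inr_desc_assoc, Preadditive.comp_neg,
          Preadditive.neg_comp, neg_inj]
        simp only [← Functor.map_comp]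
        rw [eJ])
  subst this
  exact hc2

theorem map_bijective {M : S'} (hM : IsZero (q.jpst.obj M)) (N : S) :
    Function.Bijective (fun g : q.fls.obj M ⟶ N => q.fst.map g) := by
  have hZ : IsZero (q.jst.obj (q.fls.obj M)) := by
    haveI := hq.isIso_bcApp M
    haveI := q.adjG.right_adjoint_additive
    exact IsZero.of_iso (isZero_map q.gls hM) (asIso (q.bcApp M))
  haveI := hq.isIso_unitF _ hZ
  obtain ⟨d, hd, -⟩ := existsUnique_triangle q hq N
  have hpost : Function.Bijective (fun g : q.fls.obj M ⟶ N => g ≫ q.adjF.unit.app N) := by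
    constructor
    · intro g g' h
      rw [← sub_eq_zero]
      have h0 : (g - g') ≫ biprod.lift (q.adjJ.unit.app N) (q.adjF.unit.app N) = 0 := by
        apply biprod.hom_ext
        · rw [Category.assoc, biprod.lift_fst, zero_comp]
          exact hom_eq_zero_of_adj q.adjJ hZ _
        · rw [Category.assoc, biprod.lift_snd, zero_comp, Preadditive.sub_comp, sub_eq_zero]
          exact h
      obtain ⟨(k : (q.fls.obj M)⟦(1 : ℤ)⟧ ⟶ T q (q.jst.obj N)), (hk : (g - g')⟦(1 : ℤ)⟧' = k ≫ d)⟩ := Triangle.coyoneda_exact₁ _ hd ((g - g')⟦(1 : ℤ)⟧') (by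
        show _ ≫ (shiftFunctor S (1 : ℤ)).map (biprod.lift _ _) = 0
        refine ((shiftFunctor S (1 : ℤ)).map_comp _ _).symm.trans ?_
        exact (congrArg (shiftFunctor S (1 : ℤ)).map h0).trans (Functor.map_zero _ _ _))
      rw [hom_T_eq_zero q hq (isZero_jst_shift q hZ 1) k] at hk
      exact (shiftFunctor S (1 : ℤ)).map_injective (hk.trans (zero_comp.trans (Functor.map_zero _ _ _).symm))
    · intro h
      obtain ⟨(g : q.fls.obj M ⟶ N), (hg : h ≫ biprod.inr = g ≫ biprod.lift (q.adjJ.unit.app N) (q.adjF.unit.app N))⟩ := Triangle.coyoneda_exact₂ _ hd (h ≫ biprod.inr) (hom_T_eq_zero q hq hZ _)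
      refine ⟨g, ?_⟩
      have := congrArg (fun t => t ≫ biprod.snd) hg
      simpa using this.symm
  have key : ∀ g : q.fls.obj M ⟶ N, q.fls.map (q.fst.map g) = inv (q.adjF.unit.app (q.fls.obj M)) ≫ g ≫ q.adjF.unit.app N :=
    fun g => by rw [IsIso.eq_inv_comp]; exact (q.adjF.unit.naturality g).symm
  constructor
  · intro g g' h
    refine hpost.1 ?_
    have := congrArg q.fls.map h
    simp only [key] at this
    exact (cancel_epi _).1 this
  · intro h
    obtain ⟨g, hg⟩ := hpost.2 (q.adjF.homEquiv _ _ h)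
    refine ⟨g, (q.adjF.homEquiv _ _).injective ?_⟩
    rw [← hg, Adjunction.homEquiv_unit]
    exact (q.adjF.unit.naturality g).symm

theorem isIso_of_glueing (NU : R) (N' : S') (δ : q.jpst.obj N' ≅ q.gst.obj NU) (N : S)
    (a : N ⟶ q.jls.obj NU ⊞ q.fls.obj N')
    (d : q.fls.obj (q.jpls.obj (q.gst.obj NU)) ⟶ N⟦(1 : ℤ)⟧)
    (hT : Triangle.mk a
      (biprod.desc (q.adjF.unit.app (q.jls.obj NU) ≫ q.fls.map (q.bc2App NU))
        (-(q.fls.map (q.adjJp.unit.app N' ≫ q.jpls.map δ.hom)))) d ∈ distTriang S) :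
    IsIso ((q.adjJ.homEquiv N NU).symm (a ≫ biprod.fst)) ∧
      IsIso ((q.adjF.homEquiv N N').symm (a ≫ biprod.snd)) := by
  haveI := hq.isIso_counitJ
  haveI := hq.isIso_counitJp
  haveI : IsIso (q.bc2App NU) := hq.isIso_bc2App NU
  haveI := q.adjG.right_adjoint_additive
  haveI := q.adjF.right_adjoint_additive
  set u := q.adjJp.unit.app N' ≫ q.jpls.map δ.hom with hu
  set φ₁ := (q.adjJ.homEquiv N NU).symm (a ≫ biprod.fst) with hφ₁
  set φ₂ := (q.adjF.homEquiv N N').symm (a ≫ biprod.snd) with hφ₂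
  haveI hu_iso : IsIso (q.jpst.map u) := by
    haveI := isIso_map_unit q.adjJp hq.isIso_counitJp N'
    rw [hu, Functor.map_comp]
    infer_instance
  have hfu : IsIso (q.jst.map (q.fls.map u)) := by
    have hnat : q.jst.map (q.fls.map u) ≫ q.bcApp (q.jpls.obj (q.gst.obj NU)) = q.bcApp N' ≫ q.gls.map (q.jpst.map u) := by
      have h1 : q.jst.map (q.fls.map u) ≫ q.adjG.unit.app _ = q.adjG.unit.app _ ≫ q.gls.map (q.gst.map (q.jst.map (q.fls.map u))) :=
        q.adjG.unit.naturality _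
      have h2 : q.gst.map (q.jst.map (q.fls.map u)) ≫ q.e.hom.app _ = q.e.hom.app _ ≫ q.jpst.map (q.fst.map (q.fls.map u)) :=
        q.e.hom.naturality (q.fls.map u)
      have h3 : q.fst.map (q.fls.map u) ≫ q.adjF.counit.app _ = q.adjF.counit.app N' ≫ u := q.adjF.counit.naturality u
      simp only [W4c3perfectstacks.MVSq.bcApp, Category.assoc]
      rw [← Category.assoc, h1, Category.assoc]
      simp only [← Functor.map_comp]
      congr 2
      erw [← Category.assoc, h2, Category.assoc, ← Functor.map_comp, h3, Functor.map_comp]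
      rfl
    haveI := hq.isIso_bcApp (q.jpls.obj (q.gst.obj NU))
    haveI := hq.isIso_bcApp N'
    haveI : IsIso (q.jst.map (q.fls.map u) ≫ q.bcApp (q.jpls.obj (q.gst.obj NU))) := hnat ▸ inferInstance
    exact IsIso.of_isIso_comp_right _ (q.bcApp (q.jpls.obj (q.gst.obj NU)))
  have hi1 : IsIso φ₁ := by
    have hT' : Triangle.mk (q.jst.map a)
        (q.jst.map (biprod.desc (q.adjF.unit.app (q.jls.obj NU) ≫ q.fls.map (q.bc2App NU)) (-(q.fls.map u))))
        (q.jst.map d ≫ (q.jst.commShiftIso (1 : ℤ)).hom.app N) ∈ distTriang R := q.jst.map_distinguished _ hT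
    have h := isIso_comp_fst hT' (q.jst.map biprod.inl) (q.jst.map biprod.inr)
      (q.jst.map biprod.fst) (q.jst.map biprod.snd)
      (by rw [← Functor.map_comp, biprod.inl_fst, CategoryTheory.Functor.map_id])
      (by rw [← Functor.map_comp, biprod.inr_fst, Functor.map_zero])
      (by rw [← Functor.map_comp, ← Functor.map_comp, ← Functor.map_add, biprod.total, CategoryTheory.Functor.map_id])
      (by
        rw [← Functor.map_comp, biprod.inr_desc, Functor.map_neg]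
        exact ⟨-inv (q.jst.map (q.fls.map u)), by simp, by simp⟩)
    haveI : IsIso (q.jst.map (a ≫ biprod.fst)) := by rw [Functor.map_comp]; exact h
    rw [hφ₁, Adjunction.homEquiv_counit]
    infer_instance
  refine ⟨hi1, ?_⟩
  have hadjJ : a ≫ biprod.fst = q.adjJ.unit.app N ≫ q.jls.map φ₁ := by
    exact (((q.adjJ.homEquiv N NU).apply_symm_apply _).symm).trans (q.adjJ.homEquiv_unit _ _ _)
  have hadjF : a ≫ biprod.snd = q.adjF.unit.app N ≫ q.fls.map φ₂ := by
    exact (((q.adjF.homEquiv N N').apply_symm_apply _).symm).trans (q.adjF.homEquiv_unit _ _ _)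
  -- the relation cut out by the triangle
  have hrel : q.fst.map (a ≫ biprod.fst) ≫ q.bc2App NU = φ₂ ≫ u := by
    have h0 : a ≫ biprod.desc (q.adjF.unit.app (q.jls.obj NU) ≫ q.fls.map (q.bc2App NU)) (-(q.fls.map u)) = 0 :=
      comp_distTriang_mor_zero₁₂ _ hT
    rw [biprod.desc_eq, Preadditive.comp_add, Preadditive.comp_neg, Preadditive.comp_neg, add_neg_eq_zero] at h0
    apply (q.adjF.homEquiv _ _).injective
    rw [Adjunction.homEquiv_unit, Adjunction.homEquiv_unit, q.fls.map_comp, q.fls.map_comp, ← Category.assoc,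
      ← Category.assoc (q.adjF.unit.app N), ← hadjF]
    rw [show q.adjF.unit.app N ≫ q.fls.map (q.fst.map (a ≫ biprod.fst)) = (a ≫ biprod.fst) ≫ q.adjF.unit.app _ from
      (q.adjF.unit.naturality _).symm]
    simpa only [Category.assoc] using h0
  have hji : IsIso (q.jpst.map φ₂) := by
    haveI : IsIso (q.jst.map (a ≫ biprod.fst)) := by
      rw [hadjJ, Functor.map_comp]
      haveI := isIso_map_unit q.adjJ hq.isIso_counitJ N
      infer_instance
    haveI : IsIso (q.jpst.map (q.fst.map (a ≫ biprod.fst))) := by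
      have : q.e.hom.app N ≫ q.jpst.map (q.fst.map (a ≫ biprod.fst)) = q.gst.map (q.jst.map (a ≫ biprod.fst)) ≫ q.e.hom.app _ :=
        (q.e.hom.naturality _).symm
      haveI : IsIso (q.e.hom.app N ≫ q.jpst.map (q.fst.map (a ≫ biprod.fst))) := this ▸ inferInstance
      exact IsIso.of_isIso_comp_left (q.e.hom.app N) _
    haveI : IsIso (q.jpst.map φ₂ ≫ q.jpst.map u) := by
      rw [← Functor.map_comp, ← hrel, Functor.map_comp]; infer_instance
    exact IsIso.of_isIso_comp_right _ (q.jpst.map u)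
  have hfi : IsIso (q.fls.map φ₂) := by
    obtain ⟨d₀, hd₀, -⟩ := existsUnique_triangle q hq N
    let c : T q (q.jst.obj N) ⟶ q.fls.obj (q.jpls.obj (q.gst.obj NU)) :=
      q.fls.map (q.fst.map (q.jls.map φ₁) ≫ q.bc2App NU)
    let m := biprod.map (q.jls.map φ₁) (q.fls.map φ₂)
    have hm : biprod.lift (q.adjJ.unit.app N) (q.adjF.unit.app N) ≫ m = a := by
      apply biprod.hom_ext
      · simp [m, hadjJ]
      · simp [m, hadjF]
    obtain ⟨(c' : T q (q.jst.obj N) ⟶ q.fls.obj (q.jpls.obj (q.gst.obj NU))),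
        (hc1 : mvB q N ≫ c' = m ≫ biprod.desc (q.adjF.unit.app (q.jls.obj NU) ≫ q.fls.map (q.bc2App NU)) (-(q.fls.map u))),
        (hc2 : d₀ ≫ (shiftFunctor S (1 : ℤ)).map (𝟙 N) = c' ≫ d)⟩ :=
      complete_distinguished_triangle_morphism _ _ hd₀ hT (𝟙 N) m (hm.trans (Category.id_comp a).symm)
    have hcc : c' = c := by
      haveI : IsIso (q.fls.map (q.bc2App NU)) := inferInstance
      rw [← cancel_mono (inv (q.fls.map (q.bc2App NU)))]
      refine eq_of_mor₂_comp q hq hd₀ biprod.fst (biprod.lift_fst _ _) ?_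
      show mvB q N ≫ c' ≫ _ = mvB q N ≫ c ≫ _
      rw [← Category.assoc, ← Category.assoc, hc1]
      congr 1
      apply biprod.hom_ext'
      · have := q.adjF.unit_naturality (q.jls.map φ₁)
        simp only [m, c, biprod.inl_map_assoc, biprod.inl_desc, biprod.inl_desc_assoc, Functor.map_comp]
        simp [reassoc_of% this]
      · simp only [m, c, biprod.inr_map_assoc, biprod.inr_desc, biprod.inr_desc_assoc, Preadditive.comp_neg,
          Preadditive.neg_comp, ← Functor.map_comp, neg_inj]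
        congr 1
        rw [← hrel, hadjJ, Functor.map_comp, Category.assoc]
    haveI : IsIso c := inferInstance
    let ψ := Triangle.homMk (Triangle.mk (biprod.lift (q.adjJ.unit.app N) (q.adjF.unit.app N)) (mvB q N) d₀)
      (Triangle.mk a (biprod.desc (q.adjF.unit.app (q.jls.obj NU) ≫ q.fls.map (q.bc2App NU)) (-(q.fls.map u))) d)
      (𝟙 N) m c' (hm.trans (Category.id_comp a).symm) hc1 hc2
    have hmi : IsIso m := isIso₂_of_isIso₁₃ ψ hd₀ hT (show IsIso (𝟙 N) by infer_instance)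
      (show IsIso c' from hcc.symm ▸ inferInstance)
    refine ⟨biprod.inr ≫ inv m ≫ biprod.snd, ?_, ?_⟩
    · have e : biprod.inr ≫ m = q.fls.map φ₂ ≫ biprod.inr := biprod.inr_map _ _
      rw [← Category.assoc, ← e, Category.assoc, IsIso.hom_inv_id_assoc, biprod.inr_snd]
    · have : m ≫ biprod.snd = biprod.snd ≫ q.fls.map φ₂ := biprod.map_snd _ _
      simp [← this]
  obtain ⟨C, g, h, hC⟩ := distinguished_cocone_triangle φ₂
  have hCj : IsZero (q.jpst.obj C) := (Triangle.isZero₃_iff_isIso₁ _ (q.jpst.map_distinguished _ hC)).2 hji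
  letI := q.adjF.rightAdjointCommShift ℤ
  haveI := q.adjF.commShift_of_leftAdjoint ℤ
  haveI := q.adjF.isTriangulated_rightAdjoint
  have hCf : IsZero (q.fls.obj C) := (Triangle.isZero₃_iff_isIso₁ _ (q.fls.map_distinguished _ hC)).2 hfi
  haveI := hq.isIso_counitF C hCj
  have hC0 : IsZero C := IsZero.of_iso (isZero_map q.fst hCf) (asIso (q.adjF.counit.app C)).symm
  exact (Triangle.isZero₃_iff_isIso₁ _ hC).1 hC0

omit hq in
theorem generates (hbc : ∀ M : S', IsIso (q.bcApp M))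
    (fuc : S ⥤ S') (adjX : q.fls ⊣ fuc)
    (hX : ∀ N : S, IsZero (q.jst.obj N) → IsZero (q.jpst.obj (fuc.obj N)))
    (hcons : ∀ N : S, IsZero (fuc.obj N) → IsZero N)
    {ι : Type*} (B' : ι → S') (hB'ker : ∀ b, IsZero (q.jpst.obj (B' b)))
    (hB'gen : ∀ M : S', IsZero (q.jpst.obj M) →
      (∀ (b : ι) (n : ℤ) (g : (B' b)⟦n⟧ ⟶ M), g = 0) → IsZero M) :
    (∀ b, IsZero (q.jst.obj (q.fls.obj (B' b)))) ∧
      ∀ N : S, IsZero (q.jst.obj N) →
        (∀ (b : ι) (n : ℤ) (g : (q.fls.obj (B' b))⟦n⟧ ⟶ N), g = 0) → IsZero N := by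
  letI := q.adjF.rightAdjointCommShift ℤ
  haveI := q.adjG.right_adjoint_additive
  refine ⟨fun b => ?_, fun N hN h => hcons N (hB'gen _ (hX N hN) fun b n g => ?_)⟩
  · haveI := hbc (B' b)
    exact IsZero.of_iso (isZero_map q.gls (hB'ker b)) (asIso (q.bcApp (B' b)))
  · have := h b n (((q.fls.commShiftIso n).app (B' b)).inv ≫ (adjX.homEquiv _ _).symm g)
    rw [Preadditive.IsIso.comp_left_eq_zero] at this
    have h0 : (adjX.homEquiv ((B' b)⟦n⟧) N).symm 0 = 0 := by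
      haveI := q.adjF.right_adjoint_additive
      simp [Adjunction.homEquiv_counit]
    exact (adjX.homEquiv _ _).symm.injective (this.trans h0.symm)

end Groth.Agent.MVSqLib
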