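import Groth.Agent.Lib.MVSq.Basic
import Groth.Prelude.Def_W4c3perfectstacksMV
import Groth.Prelude.Def_CohDer
import Mathlib.CategoryTheory.Limits.Preserves.Shapes.Products
import Mathlib.CategoryTheory.Adjunction.Limits
import Mathlib.CategoryTheory.Adjunction.Additive
import Mathlib.Algebra.DirectSum.Basic

/-!
# Compact objects in a Mayer–Vietoris square
-/

open CategoryTheory CategoryTheory.Limits CategoryTheory.Pretriangulated
open scoped DirectSum

namespace Groth.Agent.MVSqLib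

universe v u

section Cpt

variable {C D E : Type u} [Category.{v} C] [Category.{v} D] [Category.{v} E]
  [Preadditive C] [Preadditive D] [Preadditive E] [HasCoproducts.{v} C]

/-- the comparison map from the direct sum of the `Hom(K, F Xᵢ)` -/
noncomputable def sumTo (F : C ⥤ D) (K : D) {ι : Type v} (X : ι → C) :
    DirectSum ι (fun i => K ⟶ F.obj (X i)) →+ (K ⟶ F.obj (∐ X)) := by
  classical
  exact DirectSum.toAddMonoid fun i => Preadditive.rightComp K (F.map (Sigma.ι X i))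

theorem sumTo_of (F : C ⥤ D) (K : D) {ι : Type v} [DecidableEq ι] (X : ι → C) (i : ι) (u : K ⟶ F.obj (X i)) :
    sumTo F K X (DirectSum.of (fun i => K ⟶ F.obj (X i)) i u) = u ≫ F.map (Sigma.ι X i) := by
  unfold sumTo
  convert DirectSum.toAddMonoid_of (fun i => Preadditive.rightComp K (F.map (Sigma.ι X i))) i u using 1 <;> first | rfl | congr!

/-- `K` is compact relative to `F` -/
def Cpt (F : C ⥤ D) (K : D) : Prop := ∀ (ι : Type v) (X : ι → C), Function.Bijective (sumTo F K X)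

namespace Cpt

variable {F : C ⥤ D} {K : D} {ι : Type v} {X : ι → C}

theorem exists_sum (h : Cpt F K) (φ : K ⟶ F.obj (∐ X)) :
    ∃ (s : Finset ι) (u : ∀ i, K ⟶ F.obj (X i)), φ = ∑ i ∈ s, u i ≫ F.map (Sigma.ι X i) ∧ ∀ i, i ∉ s → u i = 0 := by
  classical
  obtain ⟨x, rfl⟩ := (h ι X).2 φ
  refine ⟨DFinsupp.support x, fun i => x i, ?_, fun i hi => DFinsupp.notMem_support_iff.1 hi⟩
  conv_lhs => rw [← DirectSum.sum_support_of x, map_sum]
  exact Finset.sum_congr rfl fun i _ => sumTo_of F K X i _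

theorem eq_zero (h : Cpt F K) {s : Finset ι} {u : ∀ i, K ⟶ F.obj (X i)}
    (h0 : ∑ i ∈ s, u i ≫ F.map (Sigma.ι X i) = 0) : ∀ i ∈ s, u i = 0 := by
  classical
  intro i hi
  have hx : ∑ j ∈ s, DirectSum.of (fun i => K ⟶ F.obj (X i)) j (u j) = 0 := (h ι X).1 (by
    rw [map_sum, map_zero, ← h0]
    exact Finset.sum_congr rfl fun j _ => sumTo_of F K X j _)
  have := DFunLike.congr_fun hx i
  rw [DFinsupp.finsetSum_apply, Finset.sum_eq_single i (fun j _ hji => DirectSum.of_eq_of_ne _ _ _ (Ne.symm hji))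
    (fun h => absurd hi h), DirectSum.of_eq_same] at this
  exact this

theorem of_sums (hS : ∀ (ι : Type v) (X : ι → C) (φ : K ⟶ F.obj (∐ X)), φ ∈ (sumTo F K X).range)
    (hI : ∀ (ι : Type v) (X : ι → C) (s : Finset ι) (u : ∀ i, K ⟶ F.obj (X i)),
      ∑ i ∈ s, u i ≫ F.map (Sigma.ι X i) = 0 → ∀ i ∈ s, u i = 0) : Cpt F K := by
  classical
  refine fun ι X => ⟨(injective_iff_map_eq_zero _).2 fun x hx => ?_, fun φ => hS ι X φ⟩
  rw [← DirectSum.sum_support_of x, map_sum] at hx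
  have := hI ι X (DFinsupp.support x) (fun i => x i) (by
    refine Eq.trans (Finset.sum_congr rfl fun i _ => ?_) hx
    exact (sumTo_of F K X i _).symm)
  refine DFinsupp.ext fun i => ?_
  by_cases hi : i ∈ DFinsupp.support x
  · exact this i hi
  · exact DFinsupp.notMem_support_iff.1 hi

/-- transport along compatible additive equivalences -/
theorem congr_equiv {D' : Type u} [Category.{v} D'] [Preadditive D'] {F' : C ⥤ D'} {K' : D'} (h : Cpt F K)
    (e : ∀ Y, (K ⟶ F.obj Y) ≃+ (K' ⟶ F'.obj Y))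
    (he : ∀ {Y Y'} (f : Y ⟶ Y') (φ : K ⟶ F.obj Y), e Y' (φ ≫ F.map f) = e Y φ ≫ F'.map f) : Cpt F' K' := by
  classical
  refine of_sums (fun ι X φ => ?_) fun ι X s u h0 i hi => ?_
  · obtain ⟨s, u, hu, -⟩ := h.exists_sum ((e _).symm φ)
    have : φ = e _ ((e _).symm φ) := ((e _).apply_symm_apply φ).symm
    rw [this, hu, map_sum]
    exact AddSubgroup.sum_mem _ fun i _ => ⟨DirectSum.of _ i (e _ (u i)), by rw [sumTo_of, he]⟩
  · have h1 : ∑ i ∈ s, (e _).symm (u i) ≫ F.map (Sigma.ι X i) = 0 := (e _).injective (by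
      rw [map_sum, map_zero, ← h0]
      exact Finset.sum_congr rfl fun j _ => by rw [he, AddEquiv.apply_symm_apply])
    have := h.eq_zero h1 i hi
    simpa using congrArg (e _) this

theorem of_natIso {F' : C ⥤ D} (h : Cpt F K) (τ : F ≅ F') : Cpt F' K :=
  h.congr_equiv (fun Y =>
    { toFun := fun φ => φ ≫ τ.hom.app Y
      invFun := fun φ => φ ≫ τ.inv.app Y
      left_inv := fun φ => by simp
      right_inv := fun φ => by simp
      map_add' := fun a b => Preadditive.add_comp _ _ _ _ _ _ })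
    fun f φ => by simp

theorem of_iso {K' : D} (h : Cpt F K) (α : K' ≅ K) : Cpt F K' :=
  h.congr_equiv (fun Y =>
    { toFun := fun φ => α.hom ≫ φ
      invFun := fun φ => α.inv ≫ φ
      left_inv := fun φ => by simp
      right_inv := fun φ => by simp
      map_add' := fun a b => Preadditive.comp_add _ _ _ _ _ _ })
    fun f φ => (Category.assoc _ _ _).symm

theorem comp_adj {E : Type u} [Category.{v} E] [Preadditive E] {L : E ⥤ D} {Rt : D ⥤ E} (adj : L ⊣ Rt)
    [L.Additive] {K : E} (h : Cpt F (L.obj K)) : Cpt (F ⋙ Rt) K :=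
  h.congr_equiv (fun Y => adj.homAddEquiv K (F.obj Y)) fun f φ => adj.homEquiv_naturality_right φ (F.map f)

theorem adj_obj {E : Type u} [Category.{v} E] [Preadditive E] {L : E ⥤ D} {Rt : D ⥤ E} (adj : L ⊣ Rt)
    [L.Additive] {K : E} (h : Cpt (F ⋙ Rt) K) : Cpt F (L.obj K) :=
  h.congr_equiv (fun Y => (adj.homAddEquiv K (F.obj Y)).symm)
    fun f φ => adj.homEquiv_naturality_right_symm φ (F.map f)

theorem of_compact [HasCoproducts.{v} D] (F : C ⥤ D) {K : D} (h : CohDer.IsCompactObject K)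
    (hF : ∀ (ι : Type v) (X : ι → C), IsIso (sigmaComparison F X)) : Cpt F K := by
  classical
  intro ι X
  haveI := hF ι X
  have e : sumTo F K X = (Preadditive.rightComp K (sigmaComparison F X)).comp
      (CohDer.homSumToHomCoprod K fun i => F.obj (X i)) := by
    refine DirectSum.addHom_ext fun i u => ?_
    rw [sumTo_of]
    show u ≫ F.map (Sigma.ι X i) = CohDer.homSumToHomCoprod K _ (DirectSum.of _ i u) ≫ sigmaComparison F X
    have e1 : CohDer.homSumToHomCoprod K (fun i => F.obj (X i)) (DirectSum.of _ i u) = u ≫ Sigma.ι (fun i => F.obj (X i)) i := by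
      unfold CohDer.homSumToHomCoprod
      convert DirectSum.toAddMonoid_of (fun j => Preadditive.rightComp K (Sigma.ι (fun i => F.obj (X i)) j)) i u using 1 <;> first | rfl | congr!
    rw [e1, Category.assoc, ι_comp_sigmaComparison]
  rw [e]
  have hb : Function.Bijective (fun φ : K ⟶ ∐ fun i => F.obj (X i) => φ ≫ sigmaComparison F X) :=
    ⟨fun a b h => (cancel_mono _).1 h, fun φ => ⟨φ ≫ inv (sigmaComparison F X), by simp⟩⟩
  exact hb.comp (h ι _)

theorem of_compact_leftAdjoint [HasCoproducts.{v} D] {L : C ⥤ D} {Rt : D ⥤ C} (adj : L ⊣ Rt) {K : D}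
    (h : CohDer.IsCompactObject K) : Cpt L K := by
  haveI := adj.leftAdjoint_preservesColimits
  exact of_compact L h fun ι X => inferInstance

theorem compact {K' : C} (h : Cpt (𝟭 C) K') : CohDer.IsCompactObject K' := by
  classical
  intro ι X
  have e : CohDer.homSumToHomCoprod K' X = sumTo (𝟭 C) K' X := by
    refine DirectSum.addHom_ext fun i u => ?_
    refine Eq.trans ?_ (sumTo_of (𝟭 C) K' X i u).symm
    unfold CohDer.homSumToHomCoprod
    convert DirectSum.toAddMonoid_of (fun j => Preadditive.rightComp K' (Sigma.ι X j)) i u using 1 <;> first | rfl | congr!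
  rw [e]; exact h ι X

theorem compact_shift [HasShift C ℤ] [∀ n : ℤ, (shiftFunctor C n).Additive] {A : C}
    (h : CohDer.IsCompactObject A) (n : ℤ) : CohDer.IsCompactObject (A⟦n⟧) := by
  have adj := (shiftEquiv C n).toAdjunction
  haveI : ((shiftEquiv C n).functor).Additive := inferInstanceAs (shiftFunctor C n).Additive
  refine compact (Cpt.adj_obj adj (L := (shiftEquiv C n).functor) ?_)
  exact (of_compact_leftAdjoint (shiftEquiv C n).symm.toAdjunction h).of_natIso (Functor.leftUnitor _).symm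

end Cpt

end Cpt

variable {S S' R R' : Type u} [Category.{v} S] [Category.{v} S'] [Category.{v} R] [Category.{v} R']
  [Preadditive S] [Preadditive S'] [Preadditive R] [Preadditive R']
  [HasZeroObject S] [HasZeroObject S'] [HasZeroObject R] [HasZeroObject R']
  [HasShift S ℤ] [HasShift S' ℤ] [HasShift R ℤ] [HasShift R' ℤ]
  [∀ n : ℤ, (shiftFunctor S n).Additive] [∀ n : ℤ, (shiftFunctor S' n).Additive]
  [∀ n : ℤ, (shiftFunctor R n).Additive] [∀ n : ℤ, (shiftFunctor R' n).Additive]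
  [Pretriangulated S] [Pretriangulated S'] [Pretriangulated R] [Pretriangulated R']
variable (q : W4c3perfectstacks.MVSq S S' R R')
  [q.jst.CommShift ℤ] [q.fst.CommShift ℤ] [q.jpst.CommShift ℤ] [q.gst.CommShift ℤ]
  [q.jst.IsTriangulated] [q.fst.IsTriangulated] [q.jpst.IsTriangulated] [q.gst.IsTriangulated]

omit [q.jst.CommShift ℤ] [q.fst.CommShift ℤ] [q.jpst.CommShift ℤ] [q.gst.CommShift ℤ]
  [q.jst.IsTriangulated] [q.fst.IsTriangulated] [q.jpst.IsTriangulated] [q.gst.IsTriangulated] in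
theorem bc2_naturality {P P' : R} (f : P ⟶ P') :
    q.fst.map (q.jls.map f) ≫ q.bc2App P' = q.bc2App P ≫ q.jpls.map (q.gst.map f) := by
  have h1 : q.fst.map (q.jls.map f) ≫ q.adjJp.unit.app _ = q.adjJp.unit.app _ ≫ q.jpls.map (q.jpst.map (q.fst.map (q.jls.map f))) :=
    q.adjJp.unit.naturality _
  have h2 : q.jpst.map (q.fst.map (q.jls.map f)) ≫ q.e.inv.app _ = q.e.inv.app _ ≫ q.gst.map (q.jst.map (q.jls.map f)) :=
    q.e.inv.naturality (q.jls.map f)
  have h3 : q.jst.map (q.jls.map f) ≫ q.adjJ.counit.app _ = q.adjJ.counit.app _ ≫ f := q.adjJ.counit.naturality f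
  simp only [W4c3perfectstacks.MVSq.bc2App, Category.assoc]
  rw [← Category.assoc, h1, Category.assoc]
  simp only [← Functor.map_comp]
  congr 2
  erw [← Category.assoc, h2, Category.assoc, ← Functor.map_comp, h3, Functor.map_comp]


theorem compact_of_pullbacks [IsTriangulated S] (hq : q.IsMV)
    [HasCoproducts.{v} S] [HasCoproducts.{v} S'] [HasCoproducts.{v} R] [HasCoproducts.{v} R']
    (N : S) (hU : CohDer.IsCompactObject (q.jst.obj N)) (hX' : CohDer.IsCompactObject (q.fst.obj N))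
    (hU' : CohDer.IsCompactObject (q.gst.obj (q.jst.obj N))) :
    CohDer.IsCompactObject N := by
  classical
  haveI := q.adjJ.right_adjoint_additive
  haveI := q.adjF.right_adjoint_additive
  let U : S ⥤ S := q.jst ⋙ q.jls
  let V : S ⥤ S := q.fst ⋙ q.fls
  let W : S ⥤ S := U ⋙ V
  let L' : S ⥤ R' := q.fst ⋙ q.jpst
  let adj' := q.adjF.comp q.adjJp
  haveI : L'.Additive := inferInstanceAs (q.fst ⋙ q.jpst).Additive
  haveI : ∀ P, IsIso (q.bc2App P) := hq.isIso_bc2App
  let σ : q.jls ⋙ q.fst ≅ q.gst ⋙ q.jpls :=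
    NatIso.ofComponents (fun P => asIso (q.bc2App P)) fun f => bc2_naturality q f
  let τ : L' ⋙ (q.jpls ⋙ q.fls) ≅ W :=
    NatIso.ofComponents (fun Y => q.fls.mapIso (q.jpls.mapIso (q.e.app Y).symm ≪≫ (σ.app (q.jst.obj Y)).symm))
      fun {Y Y'} f => by
        have h1 : q.jpst.map (q.fst.map f) ≫ q.e.inv.app Y' = q.e.inv.app Y ≫ q.gst.map (q.jst.map f) := q.e.inv.naturality f
        have h2 : q.jpls.map (q.gst.map (q.jst.map f)) ≫ σ.inv.app (q.jst.obj Y') = σ.inv.app (q.jst.obj Y) ≫ q.fst.map (q.jls.map (q.jst.map f)) :=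
          σ.inv.naturality _
        show q.fls.map (q.jpls.map (q.jpst.map (q.fst.map f))) ≫ q.fls.map (q.jpls.map (q.e.inv.app Y') ≫ σ.inv.app (q.jst.obj Y')) =
          q.fls.map (q.jpls.map (q.e.inv.app Y) ≫ σ.inv.app (q.jst.obj Y)) ≫ q.fls.map (q.fst.map (q.jls.map (q.jst.map f)))
        rw [← q.fls.map_comp, ← q.fls.map_comp, ← Category.assoc, ← q.jpls.map_comp, h1, q.jpls.map_comp,
          Category.assoc, Category.assoc]
        congr 2
  have hUK : ∀ K : S, CohDer.IsCompactObject (q.jst.obj K) → Cpt U K := fun K h =>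
    Cpt.comp_adj q.adjJ (Cpt.of_compact_leftAdjoint q.adjJ h)
  have hVK : ∀ K : S, CohDer.IsCompactObject (q.fst.obj K) → Cpt V K := fun K h =>
    Cpt.comp_adj q.adjF (Cpt.of_compact_leftAdjoint q.adjF h)
  have hWK : ∀ K : S, CohDer.IsCompactObject (q.gst.obj (q.jst.obj K)) → Cpt W K := fun K h =>
    (Cpt.comp_adj adj' ((Cpt.of_compact_leftAdjoint adj' h).of_iso (q.e.app K).symm)).of_natIso τ
  have hU1 : Cpt U N := hUK N hU
  have hV1 : Cpt V N := hVK N hX'
  have hW1 : Cpt W N := hWK N hU'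
  have hU2 : Cpt U (N⟦(1 : ℤ)⟧) := Cpt.comp_adj q.adjJ
    ((Cpt.of_compact_leftAdjoint q.adjJ (Cpt.compact_shift hU 1)).of_iso ((q.jst.commShiftIso (1 : ℤ)).app N))
  have hV2 : Cpt V (N⟦(1 : ℤ)⟧) := Cpt.comp_adj q.adjF
    ((Cpt.of_compact_leftAdjoint q.adjF (Cpt.compact_shift hX' 1)).of_iso ((q.fst.commShiftIso (1 : ℤ)).app N))
  have hW2 : Cpt W (N⟦(1 : ℤ)⟧) :=
    (Cpt.comp_adj adj' ((Cpt.of_compact_leftAdjoint adj' (Cpt.compact_shift hU' 1)).of_iso
      (((q.e.app (N⟦(1 : ℤ)⟧)).symm ≪≫ (q.gst.mapIso ((q.jst.commShiftIso (1 : ℤ)).app N))) ≪≫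
        (q.gst.commShiftIso (1 : ℤ)).app (q.jst.obj N)))).of_natIso τ
  choose d hd hduniq using existsUnique_triangle q hq
  let a : ∀ Y, Y ⟶ U.obj Y ⊞ V.obj Y := fun Y => biprod.lift (q.adjJ.unit.app Y) (q.adjF.unit.app Y)
  let b : ∀ Y, U.obj Y ⊞ V.obj Y ⟶ W.obj Y := fun Y => mvB q Y
  let d' : ∀ Y, W.obj Y ⟶ Y⟦(1 : ℤ)⟧ := fun Y => d Y
  have hT : ∀ Y, Triangle.mk (a Y) (b Y) (d' Y) ∈ distTriang S := hd
  have hab : ∀ Y, a Y ≫ b Y = 0 := fun Y => comp_distTriang_mor_zero₁₂ _ (hT Y)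
  have hbd : ∀ Y, b Y ≫ d' Y = 0 := fun Y => comp_distTriang_mor_zero₂₃ _ (hT Y)
  have hnd : ∀ {Y Y'} (f : Y ⟶ Y'), d' Y ≫ f⟦(1 : ℤ)⟧' = W.map f ≫ d' Y' := fun f => naturality q hq f (hd _) (hd _)
  have eJ : ∀ {Y Y'} (f : Y ⟶ Y'), f ≫ q.adjJ.unit.app Y' = q.adjJ.unit.app Y ≫ U.map f := fun f => q.adjJ.unit.naturality f
  have eF : ∀ {Y Y'} (f : Y ⟶ Y'), f ≫ q.adjF.unit.app Y' = q.adjF.unit.app Y ≫ V.map f := fun f => q.adjF.unit.naturality f
  have hna : ∀ {Y Y'} (f : Y ⟶ Y'), f ≫ a Y' = a Y ≫ biprod.map (U.map f) (V.map f) := fun {Y Y'} f => by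
    apply biprod.hom_ext
    · rw [Category.assoc, Category.assoc, biprod.map_fst, biprod.lift_fst, biprod.lift_fst_assoc]; exact eJ f
    · rw [Category.assoc, Category.assoc, biprod.map_snd, biprod.lift_snd, biprod.lift_snd_assoc]; exact eF f
  have hnb : ∀ {Y Y'} (f : Y ⟶ Y'), biprod.map (U.map f) (V.map f) ≫ b Y' = b Y ≫ W.map f := fun {Y Y'} f => by
    apply biprod.hom_ext'
    · show biprod.inl ≫ biprod.map (U.map f) (V.map f) ≫ mvB q Y' = biprod.inl ≫ mvB q Y ≫ W.map f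
      rw [biprod.inl_map_assoc, biprod.inl_desc, biprod.inl_desc_assoc]
      exact q.adjF.unit.naturality (U.map f)
    · show biprod.inr ≫ biprod.map (U.map f) (V.map f) ≫ mvB q Y' = biprod.inr ≫ mvB q Y ≫ W.map f
      rw [biprod.inr_map_assoc, biprod.inr_desc, biprod.inr_desc_assoc, Preadditive.comp_neg, Preadditive.neg_comp, neg_inj]
      show q.fls.map (q.fst.map f) ≫ _ = _ ≫ q.fls.map (q.fst.map (q.jls.map (q.jst.map f)))
      simp only [← Functor.map_comp]
      rw [show f ≫ q.adjJ.unit.app Y' = q.adjJ.unit.app Y ≫ q.jls.map (q.jst.map f) from eJ f]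
  refine (Cpt.of_sums (F := 𝟭 S) (K := N) ?_ ?_).compact
  · intro ι X φ
    change N ⟶ ∐ X at φ
    obtain ⟨s₁, u, hu, hu0⟩ := hU1.exists_sum (φ ≫ q.adjJ.unit.app _)
    obtain ⟨s₂, w, hw, hw0⟩ := hV1.exists_sum (φ ≫ q.adjF.unit.app _)
    let c : ∀ i, N ⟶ U.obj (X i) ⊞ V.obj (X i) := fun i => biprod.lift (u i) (w i)
    have hφ : φ ≫ a (∐ X) = ∑ i ∈ s₁ ∪ s₂, c i ≫ biprod.map (U.map (Sigma.ι X i)) (V.map (Sigma.ι X i)) := by
      apply biprod.hom_ext
      · rw [Preadditive.sum_comp, Category.assoc, biprod.lift_fst]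
        refine hu.trans ((Finset.sum_subset Finset.subset_union_left fun i _ hi => by rw [hu0 i hi, zero_comp]).trans
          (Finset.sum_congr rfl fun i _ => ?_))
        rw [Category.assoc, biprod.map_fst, biprod.lift_fst_assoc]
      · rw [Preadditive.sum_comp, Category.assoc, biprod.lift_snd]
        refine hw.trans ((Finset.sum_subset Finset.subset_union_right fun i _ hi => by rw [hw0 i hi, zero_comp]).trans
          (Finset.sum_congr rfl fun i _ => ?_))
        rw [Category.assoc, biprod.map_snd, biprod.lift_snd_assoc]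
    have hcb : ∀ i ∈ s₁ ∪ s₂, c i ≫ b (X i) = 0 := hW1.eq_zero (u := fun i => c i ≫ b (X i)) (by
      have h0 : (φ ≫ a (∐ X)) ≫ b (∐ X) = 0 := by rw [Category.assoc, hab, comp_zero]
      rw [hφ, Preadditive.sum_comp] at h0
      refine Eq.trans (Finset.sum_congr rfl fun i _ => ?_) h0
      rw [Category.assoc, Category.assoc, hnb])
    have hlift : ∀ i, ∃ ψ : N ⟶ X i, i ∈ s₁ ∪ s₂ → c i = ψ ≫ a (X i) := fun i => by
      by_cases hi : i ∈ s₁ ∪ s₂
      · obtain ⟨ψ, hψ⟩ := Triangle.coyoneda_exact₂ _ (hT (X i)) (c i) (hcb i hi)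
        exact ⟨ψ, fun _ => hψ⟩
      · exact ⟨0, fun h => absurd h hi⟩
    choose ψ hψ using hlift
    let r : N ⟶ ∐ X := φ - ∑ i ∈ s₁ ∪ s₂, ψ i ≫ Sigma.ι X i
    have hr : r ≫ a (∐ X) = 0 := by
      rw [Preadditive.sub_comp, hφ, Preadditive.sum_comp, sub_eq_zero]
      refine Finset.sum_congr rfl fun i hi => ?_
      rw [Category.assoc, hna, ← Category.assoc, ← hψ i hi]
    obtain ⟨(h : N⟦(1 : ℤ)⟧ ⟶ W.obj (∐ X)), (hh : r⟦(1 : ℤ)⟧' = h ≫ d' (∐ X))⟩ :=
      Triangle.coyoneda_exact₁ _ (hT (∐ X)) (r⟦(1 : ℤ)⟧') (by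
        show r⟦(1 : ℤ)⟧' ≫ (a (∐ X))⟦(1 : ℤ)⟧' = 0
        rw [← Functor.map_comp, hr, Functor.map_zero])
    obtain ⟨s₃, k, hk, -⟩ := hW2.exists_sum h
    have hr' : r = ∑ i ∈ s₃, (shiftFunctor S (1 : ℤ)).preimage (k i ≫ d' (X i)) ≫ Sigma.ι X i := by
      apply (shiftFunctor S (1 : ℤ)).map_injective
      rw [hh, hk, Preadditive.sum_comp, Functor.map_sum]
      refine Finset.sum_congr rfl fun i _ => ?_
      rw [Functor.map_comp, Functor.map_preimage, Category.assoc, Category.assoc, hnd]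
    have hmem : ∀ (i : ι) (g : N ⟶ X i), g ≫ Sigma.ι X i ∈ (sumTo (𝟭 S) N X).range :=
      fun i g => ⟨DirectSum.of _ i g, sumTo_of _ _ _ _ _⟩
    rw [show φ = r + ∑ i ∈ s₁ ∪ s₂, ψ i ≫ Sigma.ι X i from (sub_add_cancel _ _).symm, hr']
    exact AddSubgroup.add_mem _ (AddSubgroup.sum_mem _ fun i _ => hmem i _) (AddSubgroup.sum_mem _ fun i _ => hmem i _)
  · intro ι X s u h0
    change ∑ i ∈ s, u i ≫ Sigma.ι X i = 0 at h0
    have huJ := hU1.eq_zero (s := s) (u := fun i => u i ≫ q.adjJ.unit.app (X i)) (by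
      refine Eq.trans (Finset.sum_congr rfl fun i _ => ?_) (((Preadditive.sum_comp _ _ _).symm.trans
        (congrArg (fun t => t ≫ q.adjJ.unit.app (∐ X)) h0)).trans zero_comp)
      rw [Category.assoc, ← eJ, Category.assoc])
    have huF := hV1.eq_zero (s := s) (u := fun i => u i ≫ q.adjF.unit.app (X i)) (by
      refine Eq.trans (Finset.sum_congr rfl fun i _ => ?_) (((Preadditive.sum_comp _ _ _).symm.trans
        (congrArg (fun t => t ≫ q.adjF.unit.app (∐ X)) h0)).trans zero_comp)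
      rw [Category.assoc, ← eF, Category.assoc])
    have hlift : ∀ i, ∃ h : N⟦(1 : ℤ)⟧ ⟶ W.obj (X i), i ∈ s → (u i)⟦(1 : ℤ)⟧' = h ≫ d' (X i) := fun i => by
      by_cases hi : i ∈ s
      · have h1 : (show N ⟶ X i from u i) ≫ a (X i) = 0 := by
          apply biprod.hom_ext
          · rw [zero_comp, Category.assoc, biprod.lift_fst]; exact huJ i hi
          · rw [zero_comp, Category.assoc, biprod.lift_snd]; exact huF i hi
        obtain ⟨h, hh⟩ := Triangle.coyoneda_exact₁ _ (hT (X i)) ((u i)⟦(1 : ℤ)⟧') (by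
          show (shiftFunctor S (1 : ℤ)).map (show N ⟶ X i from u i) ≫ (a (X i))⟦(1 : ℤ)⟧' = 0
          rw [← Functor.map_comp, h1, Functor.map_zero])
        exact ⟨h, fun _ => hh⟩
      · exact ⟨0, fun h => absurd h hi⟩
    choose h hh using hlift
    have hsum : (∑ i ∈ s, h i ≫ W.map (Sigma.ι X i)) ≫ d' (∐ X) = 0 := by
      have h1 := congrArg (shiftFunctor S (1 : ℤ)).map h0
      rw [Functor.map_sum, Functor.map_zero] at h1
      rw [Preadditive.sum_comp]
      refine Eq.trans (Finset.sum_congr rfl fun i hi => ?_) h1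
      rw [Category.assoc, ← hnd, ← Category.assoc, ← hh i hi, ← Functor.map_comp]

    obtain ⟨(k : N⟦(1 : ℤ)⟧ ⟶ U.obj (∐ X) ⊞ V.obj (∐ X)), (hk : _ = k ≫ b (∐ X))⟩ :=
      Triangle.coyoneda_exact₃ _ (hT (∐ X)) _ hsum
    obtain ⟨t₁, k₁, hk₁, hk₁0⟩ := hU2.exists_sum (k ≫ biprod.fst)
    obtain ⟨t₂, k₂, hk₂, hk₂0⟩ := hV2.exists_sum (k ≫ biprod.snd)
    let c : ∀ i, N⟦(1 : ℤ)⟧ ⟶ U.obj (X i) ⊞ V.obj (X i) := fun i => biprod.lift (k₁ i) (k₂ i)
    have hkc : k = ∑ i ∈ t₁ ∪ t₂, c i ≫ biprod.map (U.map (Sigma.ι X i)) (V.map (Sigma.ι X i)) := by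
      apply biprod.hom_ext
      · rw [Preadditive.sum_comp]
        refine hk₁.trans ((Finset.sum_subset Finset.subset_union_left fun i _ hi => by rw [hk₁0 i hi, zero_comp]).trans
          (Finset.sum_congr rfl fun i _ => ?_))
        rw [Category.assoc, biprod.map_fst, biprod.lift_fst_assoc]
      · rw [Preadditive.sum_comp]
        refine hk₂.trans ((Finset.sum_subset Finset.subset_union_right fun i _ hi => by rw [hk₂0 i hi, zero_comp]).trans
          (Finset.sum_congr rfl fun i _ => ?_))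
        rw [Category.assoc, biprod.map_snd, biprod.lift_snd_assoc]
    let T₀ := s ∪ (t₁ ∪ t₂)
    let h' : ∀ i, N⟦(1 : ℤ)⟧ ⟶ W.obj (X i) := fun i =>
      (if i ∈ s then h i else 0) - (if i ∈ t₁ ∪ t₂ then c i ≫ b (X i) else 0)
    have hz := hW2.eq_zero (s := T₀) (u := h') (by
      simp only [h', Preadditive.sub_comp, Finset.sum_sub_distrib, ite_comp, zero_comp, T₀]
      rw [← Finset.sum_filter, ← Finset.sum_filter, Finset.filter_mem_eq_inter, Finset.filter_mem_eq_inter,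
        Finset.inter_eq_right.2 Finset.subset_union_left, Finset.inter_eq_right.2 Finset.subset_union_right, sub_eq_zero, hk,
        hkc, Preadditive.sum_comp]
      refine Finset.sum_congr rfl fun i _ => ?_
      rw [Category.assoc, Category.assoc, hnb])
    intro i hi
    have h2 := hz i (Finset.mem_union_left _ hi)
    simp only [h', hi, if_true, sub_eq_zero] at h2
    apply (shiftFunctor S (1 : ℤ)).map_injective
    rw [hh i hi, h2, Functor.map_zero]
    split_ifs with h3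
    · rw [Category.assoc, hbd, comp_zero]
    · exact zero_comp

end Groth.Agent.MVSqLib
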